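import Groth.Agent.H8Props.FieldDimFormula
import Groth.Agent.H8Props.FibreGeneric
import Groth.Agent.H02CA.FibreLocalDim
import Mathlib

/-!
# The dimension formula for essentially finite type local homomorphisms of domains
-/

set_option autoImplicit false
set_option linter.style.haveILetI false
set_option backward.isDefEq.respectTransparency false
set_option maxHeartbeats 1000000

universe u

open IsLocalRing TensorProduct AlgebraicGeometry CategoryTheory

namespace Groth.Agent.H7Flat.Horizontal

section ClosedFibre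

variable (A : Type u) [CommRing A] [IsLocalRing A] (B : Type u) [CommRing B] [Algebra A B]

/-- The closed fibre. -/
abbrev CFib : Type u := B ⧸ (maximalIdeal A).map (algebraMap A B)

noncomputable instance algebraCFib : Algebra (ResidueField A) (CFib A B) :=
  inferInstanceAs (Algebra (A ⧸ maximalIdeal A) (B ⧸ (maximalIdeal A).map (algebraMap A B)))

instance : IsScalarTower A (ResidueField A) (CFib A B) :=
  IsScalarTower.of_algebraMap_eq fun _ => rfl

instance finiteType_cfib [Algebra.FiniteType A B] : Algebra.FiniteType (ResidueField A) (CFib A B) := by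
  haveI : Algebra.FiniteType A (CFib A B) :=
    Algebra.FiniteType.trans (R := A) (S := B) inferInstance inferInstance
  exact Algebra.FiniteType.of_restrictScalars_finiteType A _ _

variable {A B}

/-- The fibre dimension at a point of the closed fibre, computed in the closed fibre. -/
theorem fibreDimAt_eq_iSup [Algebra.FiniteType A B] (q : PrimeSpectrum B)
    (hq : q.asIdeal.under A = maximalIdeal A) :
    ∃ Qc : PrimeSpectrum (CFib A B), Qc.asIdeal.comap (Ideal.Quotient.mk _) = q.asIdeal ∧
      FlatMor.fibreDimAt (Spec.map (CommRingCat.ofHom (algebraMap A B))) q =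
        ⨆ P : {P : PrimeSpectrum (CFib A B) // P ≤ Qc}, ringKrullDim (CFib A B ⧸ P.1.asIdeal) := by
  have gen : ∀ (p : Ideal A) [p.IsMaximal], q.asIdeal.under A = p →
      ∃ Qc : PrimeSpectrum (B ⧸ p.map (algebraMap A B)), Qc.asIdeal.comap (Ideal.Quotient.mk _) = q.asIdeal ∧
      FlatMor.fibreDimAt (Spec.map (CommRingCat.ofHom (algebraMap A B))) q =
        ⨆ P : {P : PrimeSpectrum (B ⧸ p.map (algebraMap A B)) // P ≤ Qc},
          ringKrullDim ((B ⧸ p.map (algebraMap A B)) ⧸ P.1.asIdeal) := by
    intro p hp hqp
    subst hqp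
    set p : Ideal A := q.asIdeal.under A with hpdef
    let K := p.ResidueField
    let Fib := p.Fiber B
    let ι : B →+* Fib := (Algebra.TensorProduct.includeRight : B →ₐ[A] Fib).toRingHom
    let e0 : (A ⧸ p) ≃ₐ[A] K :=
      AlgEquiv.ofBijective (IsScalarTower.toAlgHom A (A ⧸ p) _) p.bijective_algebraMap_quotient_residueField
    let e : Fib ≃+* B ⧸ p.map (algebraMap A B) :=
      (Algebra.TensorProduct.congr e0.symm (AlgEquiv.refl : B ≃ₐ[A] B)).toRingEquiv.trans
        (Algebra.TensorProduct.quotIdealMapEquivQuotTensor B p).symm.toRingEquiv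
    have he : ∀ b, e (ι b) = Ideal.Quotient.mk _ b := fun b => by
      apply (Algebra.TensorProduct.quotIdealMapEquivQuotTensor B p).injective
      show Algebra.TensorProduct.quotIdealMapEquivQuotTensor B p
        ((Algebra.TensorProduct.quotIdealMapEquivQuotTensor B p).symm
          ((Algebra.TensorProduct.congr e0.symm (AlgEquiv.refl : B ≃ₐ[A] B)) ((1 : K) ⊗ₜ b))) = _
      simp
    let pp : PrimeSpectrum A := PrimeSpectrum.comap (algebraMap A B) q
    let Qf : PrimeSpectrum Fib := PrimeSpectrum.preimageEquivFiber A B pp ⟨q, rfl⟩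
    have hQf : PrimeSpectrum.comap ι Qf = q :=
      congrArg Subtype.val ((PrimeSpectrum.preimageEquivFiber A B pp).symm_apply_apply ⟨q, rfl⟩)
    let Qc : PrimeSpectrum (B ⧸ p.map (algebraMap A B)) := PrimeSpectrum.comap e.symm.toRingHom Qf
    have hQc : Qc.asIdeal.comap (Ideal.Quotient.mk _) = q.asIdeal := by
      rw [← hQf]
      ext b
      simp only [Qc, PrimeSpectrum.comap_asIdeal, Ideal.mem_comap]
      rw [← he b]
      simp
    refine ⟨Qc, hQc, ?_⟩
    rw [H02CA.fibreDimAt_eq_localDim_fiber q Qf (congrArg PrimeSpectrum.asIdeal hQf)]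
    let f' := Spec.map (CommRingCat.ofHom (algebraMap K Fib))
    haveI : LocallyOfFiniteType f' := (HasRingHomProperty.Spec_iff (P := @LocallyOfFiniteType)).mpr
      (RingHom.finiteType_algebraMap.mpr inferInstance)
    show FlatMor.localDim (Spec (CommRingCat.of Fib)) Qf = _
    rw [H8Props.FieldDim.localDim_eq_stalk_add_cdim (k := K) f' Qf]
    have h1 := H8Props.FieldDim.ringKrullDim_stalk_chart (𝟙 (Spec (CommRingCat.of Fib))) Qf
    have h2 := H8Props.FieldDim.cdim_eq_chart (k := K) f' (𝟙 (Spec (CommRingCat.of Fib))) Qf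
    erw [h1, h2, H8Props.FieldDim.height_add_dim_quotient_eq_iSup (k := K) Fib Qf]
    refine le_antisymm (iSup_le fun P => ?_) (iSup_le fun P => ?_)
    · let P' : PrimeSpectrum (B ⧸ p.map (algebraMap A B)) := PrimeSpectrum.comap e.symm.toRingHom P.1
      refine le_iSup_of_le ⟨P', Ideal.comap_mono (show P.1.asIdeal ≤ Qf.asIdeal from P.2)⟩ (le_of_eq ?_)
      refine ringKrullDim_eq_of_ringEquiv (Ideal.quotientEquiv _ _ e ?_)
      show P.1.asIdeal.comap e.symm.toRingHom = _
      exact (Ideal.map_comap_of_equiv e).symm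
    · let P' : PrimeSpectrum Fib := PrimeSpectrum.comap e.toRingHom P.1
      have hP' : P' ≤ Qf := by
        intro x hx
        have := (P.2 : P.1.asIdeal ≤ Qc.asIdeal) hx
        simpa [Qc] using this
      refine le_iSup_of_le ⟨P', hP'⟩ (le_of_eq ?_)
      refine (ringKrullDim_eq_of_ringEquiv (Ideal.quotientEquiv _ _ e ?_)).symm
      exact (Ideal.map_comap_of_surjective _ e.surjective _).symm
  exact gen (maximalIdeal A) hq

end ClosedFibre

section Local

variable {A B0 B : Type u} [CommRing A] [IsLocalRing A] [CommRing B0] [Algebra A B0]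
  [CommRing B] [IsLocalRing B] [Algebra A B] [Algebra B0 B] [IsScalarTower A B0 B]
  [IsLocalization.AtPrime B ((maximalIdeal B).comap (algebraMap B0 B))]

/-- The dimension of the closed fibre of the local ring is the height in the closed fibre. -/
theorem dim_cfib_eq_height [IsLocalHom (algebraMap A B)] (Qc : PrimeSpectrum (CFib A B0))
    (hQc : Qc.asIdeal.comap (Ideal.Quotient.mk _) = (maximalIdeal B).comap (algebraMap B0 B)) :
    ringKrullDim (B ⧸ (maximalIdeal A).map (algebraMap A B)) = Qc.asIdeal.height := by
  set q := (maximalIdeal B).comap (algebraMap B0 B) with hq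
  let I := (maximalIdeal A).map (algebraMap A B0)
  have hI : (maximalIdeal A).map (algebraMap A B) = I.map (algebraMap B0 B) := by
    rw [Ideal.map_map, IsScalarTower.algebraMap_eq A B0 B]
  rw [hI]
  have hM : Algebra.algebraMapSubmonoid (CFib A B0) q.primeCompl = Qc.asIdeal.primeCompl := by
    ext x
    obtain ⟨b, rfl⟩ := Ideal.Quotient.mk_surjective x
    constructor
    · rintro ⟨c, hc, hcb⟩ hb
      refine hc ?_
      rw [← hQc, SetLike.mem_coe, Ideal.mem_comap]
      exact (show Ideal.Quotient.mk I c = _ from hcb) ▸ hb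
    · intro hb
      exact ⟨b, fun h => hb (Ideal.mem_comap.mp (hQc.ge h)), rfl⟩
  haveI : IsLocalization q.primeCompl B := ‹IsLocalization.AtPrime B q›
  haveI h : IsLocalization.AtPrime (B ⧸ I.map (algebraMap B0 B)) Qc.asIdeal := by
    have := (inferInstance : IsLocalization (Algebra.algebraMapSubmonoid (B0 ⧸ I) q.primeCompl)
      (B ⧸ I.map (algebraMap B0 B)))
    show IsLocalization Qc.asIdeal.primeCompl _
    rw [← hM]
    exact this
  exact IsLocalization.AtPrime.ringKrullDim_eq_height Qc.asIdeal _

/-- The residue field has the transcendence degree of the closed point's closure in the closed fibre. -/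
theorem trdeg_residueField_eq [IsLocalHom (algebraMap A B)] (Qc : PrimeSpectrum (CFib A B0))
    (hQc : Qc.asIdeal.comap (Ideal.Quotient.mk _) = (maximalIdeal B).comap (algebraMap B0 B)) :
    Algebra.trdeg (ResidueField A) (ResidueField B) =
      Algebra.trdeg (ResidueField A) (CFib A B0 ⧸ Qc.asIdeal) := by
  set q := (maximalIdeal B).comap (algebraMap B0 B) with hq
  let ψ0 : B0 →+* ResidueField B := (residue B).comp (algebraMap B0 B)
  have hψ0 : RingHom.ker ψ0 = q := by
    rw [← RingHom.comap_ker, show RingHom.ker (residue B) = maximalIdeal B from Ideal.mk_ker]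
  have hI : ∀ x ∈ (maximalIdeal A).map (algebraMap A B0), ψ0 x = 0 := fun x hx => by
    have h2 : x ∈ q := hQc.le (Ideal.mem_comap.mpr (by
      rw [Ideal.Quotient.eq_zero_iff_mem.mpr hx]; exact zero_mem _))
    rw [← hψ0] at h2
    exact h2
  let g : CFib A B0 →+* ResidueField B := Ideal.Quotient.lift _ ψ0 hI
  have hg : ∀ x ∈ Qc.asIdeal, g x = 0 := fun x hx => by
    obtain ⟨b, rfl⟩ := Ideal.Quotient.mk_surjective x
    show ψ0 b = 0
    rw [← RingHom.mem_ker, hψ0, ← hQc]
    exact hx
  let ψ : CFib A B0 ⧸ Qc.asIdeal →+* ResidueField B := Ideal.Quotient.lift _ g hg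
  have hψ : Function.Injective ψ := RingHom.lift_injective_of_ker_le_ideal _ _ fun x hx => by
    obtain ⟨b, rfl⟩ := Ideal.Quotient.mk_surjective x
    have : b ∈ q := hψ0 ▸ (show b ∈ RingHom.ker ψ0 from hx)
    exact Ideal.mem_comap.mp (hQc.ge this)
  letI := ψ.toAlgebra
  haveI : FaithfulSMul (CFib A B0 ⧸ Qc.asIdeal) (ResidueField B) :=
    (faithfulSMul_iff_algebraMap_injective _ _).mpr hψ
  haveI : IsScalarTower (ResidueField A) (CFib A B0 ⧸ Qc.asIdeal) (ResidueField B) :=
    IsScalarTower.of_algebraMap_eq (R := ResidueField A) (S := CFib A B0 ⧸ Qc.asIdeal) (A := ResidueField B) fun c => by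
      obtain ⟨a, rfl⟩ := IsLocalRing.residue_surjective (R := A) c
      show _ = residue B (algebraMap B0 B (algebraMap A B0 a))
      rw [← IsScalarTower.algebraMap_apply]
      rfl
  haveI : IsLocalization q.primeCompl B := ‹IsLocalization.AtPrime B q›
  haveI : Algebra.IsAlgebraic (CFib A B0 ⧸ Qc.asIdeal) (ResidueField B) := by
    refine ⟨fun x => ?_⟩
    obtain ⟨b, rfl⟩ := residue_surjective x
    obtain ⟨⟨r, m, hm⟩, hb⟩ := IsLocalization.surj q.primeCompl b
    let π : B0 →+* CFib A B0 ⧸ Qc.asIdeal := (Ideal.Quotient.mk _).comp (Ideal.Quotient.mk _)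
    refine ⟨Polynomial.C (π m) * Polynomial.X - Polynomial.C (π r), ?_, ?_⟩
    · intro h0
      have h1 : π m = 0 := by simpa using congrArg (fun f => Polynomial.coeff f 1) h0
      exact hm (hQc.le (Ideal.mem_comap.mpr (Ideal.Quotient.eq_zero_iff_mem.mp h1)))
    · simp only [map_sub, map_mul, Polynomial.aeval_C, Polynomial.aeval_X]
      show residue B (algebraMap B0 B m) * residue B b - residue B (algebraMap B0 B r) = 0
      rw [← map_mul, mul_comm, sub_eq_zero]
      exact congrArg _ hb
  rw [← trdeg_add_eq (ResidueField A) (CFib A B0 ⧸ Qc.asIdeal) (A := ResidueField B),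
    trdeg_eq_zero_iff.2 this, add_zero]

/-- The localization has the transcendence degree of the finitely generated model. -/
theorem trdeg_localization_eq [IsDomain A] [IsDomain B0] [IsDomain B] [FaithfulSMul A B0] [FaithfulSMul B0 B] :
    Algebra.trdeg A B = Algebra.trdeg A B0 := by
  haveI : IsLocalization ((maximalIdeal B).comap (algebraMap B0 B)).primeCompl B :=
    ‹IsLocalization.AtPrime B _›
  haveI : Algebra.IsAlgebraic B0 B :=
    IsLocalization.isAlgebraic _ ((maximalIdeal B).comap (algebraMap B0 B)).primeCompl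
  rw [← trdeg_add_eq A B0 (A := B), trdeg_eq_zero_iff.2 this, add_zero]

end Local

section Independence

/-- Algebraic independence over a field persists after extending the field. -/
theorem aeval_injective_of_algebraicIndependent {k κ L : Type u} [Field k] [Field κ] [Algebra k κ]
    [CommRing L] [Algebra k L] {σ : Type u} (w : σ → L) (hw : AlgebraicIndependent k w) :
    Function.Injective (MvPolynomial.aeval (R := κ) fun i => (1 : κ) ⊗ₜ[k] w i) := by
  have h1 : Function.Injective (Algebra.TensorProduct.map (AlgHom.id κ κ) (MvPolynomial.aeval (R := k) w)) :=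
    Module.Flat.lTensor_preserves_injective_linearMap (MvPolynomial.aeval (R := k) w).toLinearMap hw
  have h2 : (MvPolynomial.aeval (R := κ) fun i => (1 : κ) ⊗ₜ[k] w i) =
      (Algebra.TensorProduct.map (AlgHom.id κ κ) (MvPolynomial.aeval (R := k) w)).comp
        (MvPolynomial.algebraTensorAlgEquiv (σ := σ) k κ).symm.toAlgHom := by
    refine MvPolynomial.algHom_ext fun i => ?_
    simp
  rw [h2]
  exact h1.comp (MvPolynomial.algebraTensorAlgEquiv (σ := σ) k κ).symm.injective

/-- A valuation ring dominating a local domain. -/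
theorem exists_valuationRing_dominating (A : Type u) [CommRing A] [IsLocalRing A] [IsDomain A] :
    ∃ (V : Type u) (_ : CommRing V) (_ : IsDomain V) (_ : ValuationRing V) (_ : Algebra A V),
      Function.Injective (algebraMap A V) ∧ IsLocalHom (algebraMap A V) := by
  let K := FractionRing A
  obtain ⟨V, hV⟩ := LocalSubring.exists_le_valuationSubring (LocalSubring.range (algebraMap A K))
  obtain ⟨hsub, hloc⟩ := hV
  let ι : A →+* V.toSubring := (algebraMap A K).codRestrict V.toSubring fun a => hsub ⟨a, rfl⟩
  have hι : Function.Injective ι := fun a b h =>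
    IsFractionRing.injective A K (congrArg Subtype.val h)
  refine ⟨V, inferInstance, inferInstance, inferInstance, ι.toAlgebra, hι, ⟨fun a ha => ?_⟩⟩
  have h1 := hloc.map_nonunit (⟨algebraMap A K a, a, rfl⟩ : (LocalSubring.range (algebraMap A K)).toSubring) ha
  obtain ⟨u, hu⟩ := h1
  obtain ⟨b, hb⟩ := (↑u⁻¹ : (LocalSubring.range (algebraMap A K)).toSubring).2
  refine isUnit_iff_exists_inv.mpr ⟨b, IsFractionRing.injective A K ?_⟩
  have h2 := congrArg Subtype.val u.mul_inv
  rw [hu] at h2
  rw [map_mul, map_one, hb]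
  exact h2

/-- For a flat algebra, independence in a fibre over the closed point lifts. -/
theorem algebraicIndependent_of_residue {A B L : Type u} [CommRing A] [IsLocalRing A] [IsDomain A]
    [CommRing B] [Algebra A B] [Module.Flat A B] [CommRing L] [Algebra A L] [Algebra (ResidueField A) L]
    [IsScalarTower A (ResidueField A) L]
    (φ : B →ₐ[A] L) {σ : Type u} (w : σ → B)
    (hw : AlgebraicIndependent (ResidueField A) fun i => φ (w i)) :
    AlgebraicIndependent A w := by
  obtain ⟨V, _, _, _, _, hinj, hloc⟩ := exists_valuationRing_dominating A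
  haveI := hloc
  haveI : IsScalarTower A (ResidueField A) (ResidueField V) := IsScalarTower.of_algebraMap_eq fun a => rfl
  let hV : V →ₐ[A] (ResidueField V) ⊗[(ResidueField A)] L := (IsScalarTower.toAlgHom A (ResidueField V) _).comp (IsScalarTower.toAlgHom A V (ResidueField V))
  let hB : B →ₐ[A] (ResidueField V) ⊗[(ResidueField A)] L :=
    ((Algebra.TensorProduct.includeRight : L →ₐ[(ResidueField A)] (ResidueField V) ⊗[(ResidueField A)] L).restrictScalars A).comp φ
  let Ψ : V ⊗[A] B →ₐ[A] (ResidueField V) ⊗[(ResidueField A)] L := Algebra.TensorProduct.lift hV hB fun _ _ => Commute.all _ _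
  let W : σ → V ⊗[A] B := fun i => (1 : V) ⊗ₜ w i
  refine (injective_iff_map_eq_zero _).mpr fun F hF => ?_
  have hW : MvPolynomial.aeval W (MvPolynomial.map (algebraMap A V) F) = 0 := by
    rw [MvPolynomial.aeval_map_algebraMap,
      show MvPolynomial.aeval (R := A) W =
        (Algebra.TensorProduct.includeRight : B →ₐ[A] V ⊗[A] B).comp (MvPolynomial.aeval w) from
        MvPolynomial.algHom_ext fun i => by simp [W],
      AlgHom.comp_apply, hF, map_zero]
  rcases H8Props.FibreGeneric.exists_primitive (MvPolynomial.map (algebraMap A V) F) with h | ⟨c, G, hG, m, hm⟩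
  · exact MvPolynomial.map_injective _ hinj (h.trans (map_zero _).symm)
  · rcases eq_or_ne c 0 with hc | hc
    · refine MvPolynomial.map_injective _ hinj ?_
      rw [hG, hc, map_zero, zero_mul, map_zero]
    exfalso
    rw [hG, map_mul, MvPolynomial.aeval_C, ← Algebra.smul_def] at hW
    have hG0 : MvPolynomial.aeval W G = 0 :=
      Module.Flat.isSMulRegular_of_nonZeroDivisors (mem_nonZeroDivisors_of_ne_zero hc)
        (hW.trans (smul_zero c).symm)
    have h1 : MvPolynomial.aeval (R := (ResidueField V)) (fun i => (1 : (ResidueField V)) ⊗ₜ[(ResidueField A)] φ (w i)) (MvPolynomial.map (residue V) G) = 0 := by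
      have key : ((MvPolynomial.aeval (R := (ResidueField V)) fun i => (1 : (ResidueField V)) ⊗ₜ[(ResidueField A)] φ (w i)).toRingHom.comp
            (MvPolynomial.map (residue V))) = Ψ.toRingHom.comp (MvPolynomial.aeval (R := V) W).toRingHom := by
        refine MvPolynomial.ringHom_ext (fun v => ?_) (fun i => ?_)
        · simp [Ψ, hV, hB]
        · simp [Ψ, hV, hB, W]
      have := RingHom.congr_fun key G
      simp only [RingHom.comp_apply] at this
      rw [show (MvPolynomial.aeval (R := V) W).toRingHom G = 0 from hG0, map_zero] at this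
      exact this
    have h2 := (injective_iff_map_eq_zero _).mp (aeval_injective_of_algebraicIndependent _ hw) _ h1
    have h3 := congrArg (MvPolynomial.coeff m) h2
    rw [MvPolynomial.coeff_map, hm, map_one] at h3
    simp at h3

/-- Each component of the closed fibre through the closed point is bounded by the transcendence degree. -/
theorem trdeg_cfib_le {A B0 B : Type u} [CommRing A] [IsLocalRing A] [IsDomain A] [CommRing B0] [Algebra A B0]
    [CommRing B] [IsLocalRing B] [Algebra A B] [Algebra B0 B] [IsScalarTower A B0 B]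
    [IsLocalization.AtPrime B ((maximalIdeal B).comap (algebraMap B0 B))] [Module.Flat A B]
    (P : PrimeSpectrum (CFib A B0))
    (hP : P.asIdeal.comap (Ideal.Quotient.mk _) ≤ (maximalIdeal B).comap (algebraMap B0 B)) :
    Algebra.trdeg (ResidueField A) (CFib A B0 ⧸ P.asIdeal) ≤ Algebra.trdeg A B := by
  set q := (maximalIdeal B).comap (algebraMap B0 B) with hq
  let L := P.asIdeal.ResidueField
  let ψ0 : B0 →+* L := (algebraMap (CFib A B0) L).comp (Ideal.Quotient.mk _)
  haveI : IsLocalization q.primeCompl B := ‹IsLocalization.AtPrime B q›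
  have hu : ∀ y : q.primeCompl, IsUnit (ψ0 y) := fun y => isUnit_iff_ne_zero.mpr fun h =>
    y.2 (hP (Ideal.mem_comap.mpr (Ideal.algebraMap_residueField_eq_zero.mp h)))
  let φ0 : B →+* L := IsLocalization.lift hu
  let φ : B →ₐ[A] L := { φ0 with
    commutes' := fun a => by
      show φ0 (algebraMap A B a) = _
      rw [IsScalarTower.algebraMap_apply A B0 B, IsLocalization.lift_eq]
      show algebraMap (CFib A B0) L (algebraMap A (CFib A B0) a) = _
      rw [← IsScalarTower.algebraMap_apply] }
  obtain ⟨s, hs⟩ := exists_isTranscendenceBasis (ResidueField A) (CFib A B0 ⧸ P.asIdeal)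
  rw [← hs.cardinalMk_eq_trdeg]
  let b : s → B0 := fun i => Function.surjInv
    (Ideal.Quotient.mk_surjective.comp Ideal.Quotient.mk_surjective) (i : CFib A B0 ⧸ P.asIdeal)
  have hb : ∀ i : s, Ideal.Quotient.mk P.asIdeal (Ideal.Quotient.mk _ (b i)) = i := fun i =>
    Function.surjInv_eq (Ideal.Quotient.mk_surjective.comp Ideal.Quotient.mk_surjective) _
  refine (algebraicIndependent_of_residue φ (fun i => algebraMap B0 B (b i)) ?_).cardinalMk_le_trdeg
  have h2 := hs.1.map' (f := IsScalarTower.toAlgHom (ResidueField A) (CFib A B0 ⧸ P.asIdeal) L)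
    P.asIdeal.injective_algebraMap_quotient_residueField
  convert h2 using 1
  funext i
  show φ0 (algebraMap B0 B (b i)) = algebraMap (CFib A B0 ⧸ P.asIdeal) L (i : CFib A B0 ⧸ P.asIdeal)
  rw [IsLocalization.lift_eq, ← hb i, ← Ideal.Quotient.algebraMap_eq, ← IsScalarTower.algebraMap_apply]
  rfl

end Independence

end Groth.Agent.H7Flat.Horizontal
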