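import Groth.Agent.H7Flat.Horizontal.Upper

/-!
# The dimension inequality for essentially finite type local homomorphisms of domains
-/

set_option autoImplicit false
set_option linter.style.haveILetI false
set_option backward.isDefEq.respectTransparency false
set_option maxHeartbeats 1000000

universe u

open IsLocalRing

namespace Groth.Agent.H7Flat.Horizontal

/-- `trdeg_A B ≤ dim(B/m_A B) + trdeg(κ(B)/κ(A))`. -/
theorem exists_dim_trdeg_le {A B : Type u} [CommRing A] [CommRing B] [IsDomain A] [IsDomain B]
    [IsLocalRing A] [IsLocalRing B] [Algebra A B] [IsLocalHom (algebraMap A B)] [FaithfulSMul A B]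
    [Algebra.EssFiniteType A B] :
    ∃ d e : ℕ, ringKrullDim (B ⧸ Ideal.map (algebraMap A B) (maximalIdeal A)) = d ∧
      Algebra.trdeg (ResidueField A) (ResidueField B) = e ∧ Algebra.trdeg A B ≤ (d + e : ℕ) := by
  classical
  let B0 := Algebra.EssFiniteType.subalgebra A B
  have hsub : (Algebra.EssFiniteType.submonoid A B) =
      ((maximalIdeal B).comap (algebraMap B0 B)).primeCompl := by
    ext x
    show IsUnit (algebraMap B0 B x) ↔ ¬ (algebraMap B0 B x ∈ maximalIdeal B)
    rw [mem_maximalIdeal, mem_nonunits_iff, not_not]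
  haveI : IsLocalization.AtPrime B ((maximalIdeal B).comap (algebraMap B0 B)) := by
    show IsLocalization _ B
    rw [← hsub]
    infer_instance
  haveI : FaithfulSMul B0 B := (faithfulSMul_iff_algebraMap_injective _ _).mpr Subtype.val_injective
  haveI : FaithfulSMul A B0 := (faithfulSMul_iff_algebraMap_injective _ _).mpr fun a b h =>
    FaithfulSMul.algebraMap_injective A B (congrArg (algebraMap B0 B) h)
  let q : PrimeSpectrum B0 := ⟨(maximalIdeal B).comap (algebraMap B0 B), inferInstance⟩
  have hq : q.asIdeal.under A = maximalIdeal A := by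
    show ((maximalIdeal B).comap (algebraMap B0 B)).comap (algebraMap A B0) = _
    rw [Ideal.comap_comap, ← IsScalarTower.algebraMap_eq]
    exact maximalIdeal_comap (algebraMap A B)
  obtain ⟨Qc, hQc, hfd⟩ := fibreDimAt_eq_iSup q hq
  haveI : IsNoetherianRing (CFib A B0) := Algebra.FiniteType.isNoetherianRing (ResidueField A) _
  obtain ⟨d, hd⟩ := ENat.ne_top_iff_exists.mp (Ideal.height_ne_top (I := Qc.asIdeal) Qc.2.ne_top)
  haveI : Algebra.FiniteType (ResidueField A) (CFib A B0 ⧸ Qc.asIdeal) :=
    Algebra.FiniteType.trans (R := ResidueField A) (S := CFib A B0) inferInstance inferInstance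
  obtain ⟨e, he, he'⟩ := H8Props.FieldDim.exists_dim_trdeg (ResidueField A) (CFib A B0 ⧸ Qc.asIdeal)
  refine ⟨d, e, ?_, ?_, ?_⟩
  · rw [dim_cfib_eq_height Qc hQc, ← hd]
    rfl
  · rw [trdeg_residueField_eq Qc hQc, he']
  rw [← H8Props.FieldDim.height_add_dim_quotient_eq_iSup (k := ResidueField A) (CFib A B0) Qc, he, ← hd] at hfd
  obtain ⟨σ, _, γ, hcard, hqf⟩ := H8Props.FieldDim.exists_quasiFiniteAt_map q (d + e)
    (hfd.le.trans (le_of_eq (by norm_cast)))
  rw [trdeg_localization_eq (B0 := B0)]
  exact (trdeg_le_card γ q hqf).trans (by exact_mod_cast hcard)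

/-- Transcendence degrees along a commutative square of bijections. -/
theorem trdeg_congr {k k' K K' : Type u} [Field k] [Field k'] [Field K] [Field K'] [Algebra k K]
    [Algebra k' K'] (e1 : k →+* k') (e2 : K →+* K') (h1 : Function.Bijective e1) (h2 : Function.Bijective e2)
    (hc : ∀ c, e2 (algebraMap k K c) = algebraMap k' K' (e1 c)) :
    Algebra.trdeg k K = Algebra.trdeg k' K' := by
  letI := e1.toAlgebra
  letI : Algebra k K' := ((algebraMap k' K').comp e1).toAlgebra
  haveI : IsScalarTower k k' K' := IsScalarTower.of_algebraMap_eq fun _ => rfl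
  let e : K ≃ₐ[k] K' := AlgEquiv.ofBijective { e2 with commutes' := fun c => hc c } h2
  haveI : Algebra.IsAlgebraic k k' := ⟨fun x => by
    obtain ⟨c, rfl⟩ := h1.2 x
    exact isAlgebraic_algebraMap c⟩
  rw [e.trdeg_eq, ← trdeg_add_eq k k' (A := K'), trdeg_eq_zero_iff.2 this, zero_add]

/-- The transcendence degree between fraction fields is that of the domains. -/
theorem trdeg_eq_fractionRings {A B K L : Type u} [CommRing A] [IsDomain A] [CommRing B] [IsDomain B]
    [Field K] [Field L] [Algebra A B] [FaithfulSMul A B] [Algebra A K] [IsFractionRing A K]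
    [Algebra B L] [IsFractionRing B L] [Algebra K L] [Algebra A L] [IsScalarTower A K L] [IsScalarTower A B L] :
    Algebra.trdeg A B = Algebra.trdeg K L := by
  haveI : FaithfulSMul A K := (faithfulSMul_iff_algebraMap_injective _ _).mpr (IsFractionRing.injective A K)
  haveI : FaithfulSMul B L := (faithfulSMul_iff_algebraMap_injective _ _).mpr (IsFractionRing.injective B L)
  haveI : Algebra.IsAlgebraic A K := IsLocalization.isAlgebraic _ (nonZeroDivisors A)
  haveI : Algebra.IsAlgebraic B L := IsLocalization.isAlgebraic _ (nonZeroDivisors B)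
  have e1 := trdeg_add_eq A B (A := L)
  have e2 := trdeg_add_eq A K (A := L)
  rw [(trdeg_eq_zero_iff (R := B) (A := L)).2 inferInstance, add_zero] at e1
  rw [(trdeg_eq_zero_iff (R := A) (A := K)).2 inferInstance, zero_add] at e2
  rw [e1, e2]

end Groth.Agent.H7Flat.Horizontal
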