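import Groth.Agent.H7Flat.Horizontal.Upper
import Groth.Agent.H06EGA14.UnivOpenNormal

/-!
# Horizontal elements: nonzero constants are not multiples
-/

set_option autoImplicit false
set_option linter.style.haveILetI false
set_option backward.isDefEq.respectTransparency false
set_option maxHeartbeats 1000000

universe u

open IsLocalRing TensorProduct AlgebraicGeometry CategoryTheory

namespace Groth.Agent.H7Flat.Horizontal

/-- Adding `g₀` as a new coordinate to a map from affine space which is quasi-finite on `B₀/(g₀)`. -/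
theorem exists_zmt_option {A B0 : Type u} [CommRing A] [CommRing B0] [Algebra A B0]
    [Algebra.FiniteType A B0] (g0 : B0) {σ : Type u} (δ : MvPolynomial σ A →ₐ[A] B0 ⧸ Ideal.span {g0})
    (q : PrimeSpectrum B0) (q1 : PrimeSpectrum (B0 ⧸ Ideal.span {g0}))
    (hq1 : q1.asIdeal.comap (Ideal.Quotient.mk _) = q.asIdeal)
    (h : (Spec.map (CommRingCat.ofHom δ.toRingHom)).QuasiFiniteAt q1) :
    ∃ (γ : MvPolynomial (Option σ) A →ₐ[A] B0), γ (MvPolynomial.X none) = g0 ∧
      ∃ r ∉ q.asIdeal, ∀ x : B0, ∃ m : ℕ, γ.toRingHom.IsIntegralElem (r ^ m * x) := by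
  choose y hy using fun i : σ => Ideal.Quotient.mk_surjective (δ (MvPolynomial.X i))
  let γ : MvPolynomial (Option σ) A →ₐ[A] B0 := MvPolynomial.aeval fun o => o.elim g0 y
  refine ⟨γ, by simp [γ], ?_⟩
  let φ : MvPolynomial (Option σ) A →ₐ[A] MvPolynomial σ A :=
    MvPolynomial.aeval fun o => o.elim 0 MvPolynomial.X
  have hφ : Function.Surjective φ := fun f => ⟨MvPolynomial.rename some f, by
    refine AlgHom.congr_fun (?_ : φ.comp (MvPolynomial.rename some) = AlgHom.id A _) f
    exact MvPolynomial.algHom_ext fun i => by simp [φ]⟩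
  letI := γ.toRingHom.toAlgebra
  letI := φ.toRingHom.toAlgebra
  letI : Algebra (MvPolynomial σ A) (B0 ⧸ Ideal.span {g0}) := δ.toRingHom.toAlgebra
  haveI : q1.asIdeal.IsPrime := q1.2
  haveI : q.asIdeal.IsPrime := q.2
  haveI : IsScalarTower A (MvPolynomial (Option σ) A) B0 :=
    IsScalarTower.of_algebraMap_eq fun a => (γ.commutes a).symm
  haveI : IsScalarTower (MvPolynomial (Option σ) A) (MvPolynomial σ A) (B0 ⧸ Ideal.span {g0}) := by
    refine IsScalarTower.of_algebraMap_eq' ?_
    refine MvPolynomial.ringHom_ext (fun a => ?_) (fun o => ?_)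
    · show Ideal.Quotient.mk _ (γ (MvPolynomial.C a)) = δ (φ (MvPolynomial.C a))
      rw [← MvPolynomial.algebraMap_eq, γ.commutes, φ.commutes, δ.commutes]
      rfl
    · show Ideal.Quotient.mk _ (γ (MvPolynomial.X o)) = δ (φ (MvPolynomial.X o))
      cases o with
      | none =>
        simp only [γ, φ, MvPolynomial.aeval_X, Option.elim, map_zero]
        exact Ideal.Quotient.eq_zero_iff_mem.mpr (Ideal.mem_span_singleton_self g0)
      | some i => simp only [γ, φ, MvPolynomial.aeval_X, Option.elim, hy]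
  haveI : IsScalarTower (MvPolynomial (Option σ) A) (MvPolynomial σ A) (Localization.AtPrime q1.asIdeal) :=
    IsScalarTower.of_algebraMap_eq fun f => by
      rw [IsScalarTower.algebraMap_apply (MvPolynomial (Option σ) A) (B0 ⧸ Ideal.span {g0})
        (Localization.AtPrime q1.asIdeal), IsScalarTower.algebraMap_apply (MvPolynomial (Option σ) A)
        (MvPolynomial σ A) (B0 ⧸ Ideal.span {g0}), ← IsScalarTower.algebraMap_apply]
  haveI h1 : Algebra.QuasiFiniteAt (MvPolynomial σ A) q1.asIdeal :=
    H06EGA14.quasiFiniteAt_of_specMap (CommRingCat.ofHom δ.toRingHom) q1 h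
  haveI : Module.Finite (MvPolynomial (Option σ) A) (MvPolynomial σ A) :=
    Module.Finite.of_surjective (Algebra.linearMap (MvPolynomial (Option σ) A) (MvPolynomial σ A)) hφ
  haveI h2 : Algebra.QuasiFinite (MvPolynomial (Option σ) A) (Localization.AtPrime q1.asIdeal) :=
    Algebra.QuasiFinite.trans (MvPolynomial (Option σ) A) (MvPolynomial σ A) _
  let R' := MvPolynomial (Option σ) A
  let I := (q.asIdeal.under R').map (algebraMap R' (Localization.AtPrime q.asIdeal))
  have hg : ∀ x ∈ Ideal.span {g0}, Ideal.Quotient.mk I (algebraMap B0 _ x) = 0 := fun x hx => by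
    obtain ⟨c, rfl⟩ := Ideal.mem_span_singleton'.mp hx
    rw [Ideal.Quotient.eq_zero_iff_mem, map_mul]
    refine Ideal.mul_mem_left _ _ ?_
    have hX : γ (MvPolynomial.X none) = g0 := by simp [γ]
    rw [← hX, show algebraMap B0 (Localization.AtPrime q.asIdeal) (γ (MvPolynomial.X none)) =
      algebraMap R' (Localization.AtPrime q.asIdeal) (MvPolynomial.X none) from
      (IsScalarTower.algebraMap_apply R' B0 _ _).symm]
    refine Ideal.mem_map_of_mem _ ?_
    show γ (MvPolynomial.X none) ∈ q.asIdeal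
    rw [hX, ← hq1, Ideal.mem_comap, Ideal.Quotient.eq_zero_iff_mem.mpr (Ideal.mem_span_singleton_self g0)]
    exact zero_mem _
  let ψ0 : B0 ⧸ Ideal.span {g0} →+* Localization.AtPrime q.asIdeal ⧸ I :=
    Ideal.Quotient.lift _ ((Ideal.Quotient.mk I).comp (algebraMap B0 _)) hg
  have hu : ∀ s : q1.asIdeal.primeCompl, IsUnit (ψ0 s) := by
    rintro ⟨s, hs⟩
    obtain ⟨b, rfl⟩ := Ideal.Quotient.mk_surjective s
    refine (IsLocalization.map_units (Localization.AtPrime q.asIdeal) (⟨b, fun hb => hs ?_⟩ : q.asIdeal.primeCompl)).map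
      (Ideal.Quotient.mk I)
    exact Ideal.mem_comap.mp (hq1.ge hb)
  let ψ : Localization.AtPrime q1.asIdeal →ₐ[R'] Localization.AtPrime q.asIdeal ⧸ I :=
    { IsLocalization.lift (M := q1.asIdeal.primeCompl) hu with
      commutes' := fun f => by
        show IsLocalization.lift hu (algebraMap R' (Localization.AtPrime q1.asIdeal) f) = _
        rw [IsScalarTower.algebraMap_apply R' (B0 ⧸ Ideal.span {g0}), IsLocalization.lift_eq,
          IsScalarTower.algebraMap_apply R' B0 (B0 ⧸ Ideal.span {g0}),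
          IsScalarTower.algebraMap_apply R' B0 (Localization.AtPrime q.asIdeal ⧸ I)]
        rfl }
  have hψ : Function.Surjective ψ := fun z => by
    obtain ⟨z, rfl⟩ := Ideal.Quotient.mk_surjective z
    obtain ⟨b, ⟨s, hs⟩, rfl⟩ := IsLocalization.exists_mk'_eq q.asIdeal.primeCompl z
    have hs' : Ideal.Quotient.mk (Ideal.span {g0}) s ∈ q1.asIdeal.primeCompl := fun h =>
      hs (hq1.le (Ideal.mem_comap.mpr h))
    refine ⟨IsLocalization.mk' _ (Ideal.Quotient.mk (Ideal.span {g0}) b) (⟨_, hs'⟩ : q1.asIdeal.primeCompl), ?_⟩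
    show IsLocalization.lift hu _ = _
    rw [IsLocalization.lift_mk'_spec]
    show Ideal.Quotient.mk I (algebraMap B0 _ b) = Ideal.Quotient.mk I (algebraMap B0 _ s) * _
    rw [← map_mul]
    exact congrArg _ (IsLocalization.mk'_spec' _ b (⟨s, hs⟩ : q.asIdeal.primeCompl)).symm
  haveI : Algebra.WeaklyQuasiFiniteAt R' q.asIdeal := by
    rw [Algebra.weaklyQuasiFiniteAt_iff]
    exact Algebra.QuasiFinite.of_surjective_algHom ψ hψ
  haveI : Algebra.FiniteType R' B0 := Algebra.FiniteType.of_restrictScalars_finiteType A _ _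
  obtain ⟨r, hr, hx⟩ := Algebra.zariskisMainProperty_iff'.mp
    (Algebra.ZariskisMainProperty.of_finiteType_of_weaklyQuasiFiniteAt (R := R') q.asIdeal)
  exact ⟨r, hr, hx⟩

/-- A prime of an integral extension missing a given element, over a generization. -/
theorem exists_prime_over_notMem {R S : Type u} [CommRing R] [IsDomain R] [IsIntegrallyClosed R]
    [CommRing S] [IsDomain S] [Algebra R S] [FaithfulSMul R S] [Algebra.IsIntegral R S]
    (p : Ideal R) [p.IsPrime] (q : Ideal S) [q.IsPrime] (hpq : p ≤ q.comap (algebraMap R S))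
    {x : S} (hx : x ∉ q) : ∃ P : PrimeSpectrum S, x ∉ P.asIdeal ∧ P.asIdeal.comap (algebraMap R S) = p := by
  have hopen : IsOpen (PrimeSpectrum.comap (algebraMap R S) '' (PrimeSpectrum.basicOpen x : Set (PrimeSpectrum S))) :=
    H06EGA14.isOpenMap_comap_of_isIntegrallyClosed R S _ (PrimeSpectrum.isOpen_basicOpen (a := x))
  have hsp : (⟨p, inferInstance⟩ : PrimeSpectrum R) ⤳ PrimeSpectrum.comap (algebraMap R S) ⟨q, inferInstance⟩ :=
    (PrimeSpectrum.le_iff_specializes _ _).mp hpq
  obtain ⟨P, hP, hPp⟩ := hsp.mem_open hopen ⟨⟨q, inferInstance⟩, hx, rfl⟩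
  exact ⟨P, hP, congrArg PrimeSpectrum.asIdeal hPp⟩

/-- Over a normal domain `A'`, the first coordinate of affine space cannot divide a nonzero constant
at a prime of an integral extension containing it. -/
theorem const_mul_ne {A' B' σ : Type u} [CommRing A'] [IsDomain A'] [IsIntegrallyClosed A'] [Finite σ]
    [CommRing B'] [IsDomain B'] (e : MvPolynomial (Option σ) A' →+* B') (he : Function.Injective e)
    (Q : Ideal B') [Q.IsPrime] (hX : e (MvPolynomial.X none) ∈ Q) (a : A') (ha : a ≠ 0)
    (v w : B') (hv : e.IsIntegralElem v) (hw : e.IsIntegralElem w) (hvQ : v ∉ Q) :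
    e (MvPolynomial.C a) * v ≠ e (MvPolynomial.X none) * w := by
  intro heq
  let R := MvPolynomial (Option σ) A'
  letI : Algebra R B' := e.toAlgebra
  haveI := H06EGA14.isIntegrallyClosed_mvPolynomial A' (Option σ)
  let D := integralClosure R B'
  haveI : FaithfulSMul R D := (faithfulSMul_iff_algebraMap_injective _ _).mpr fun x y h =>
    he (congrArg Subtype.val h)
  let φ : MvPolynomial (Option σ) A' →ₐ[A'] MvPolynomial σ A' := MvPolynomial.aeval fun o => o.elim 0 MvPolynomial.X
  have hφC : ∀ z, φ (MvPolynomial.C z) = MvPolynomial.C z := fun z => MvPolynomial.aeval_C _ z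
  have hφn : φ (MvPolynomial.X none) = 0 := MvPolynomial.aeval_X _ none
  have hφs : ∀ i, φ (MvPolynomial.X (some i)) = MvPolynomial.X i := fun i => MvPolynomial.aeval_X _ (some i)
  let p : Ideal (MvPolynomial (Option σ) A') := RingHom.ker φ.toRingHom
  haveI : p.IsPrime := RingHom.ker_isPrime _
  let qD : Ideal D := Q.comap D.val.toRingHom
  have hpq : p ≤ qD.comap (algebraMap R D) := by
    intro f hf
    show e f ∈ Q
    have hfac : (Ideal.Quotient.mk Q).comp e =
        (((Ideal.Quotient.mk Q).comp e).comp (MvPolynomial.rename some).toRingHom).comp φ.toRingHom := by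
      refine MvPolynomial.ringHom_ext (fun z => ?_) (fun o => ?_)
      · show _ = Ideal.Quotient.mk Q (e (MvPolynomial.rename some (φ (MvPolynomial.C z))))
        rw [hφC, MvPolynomial.rename_C]
        rfl
      · show _ = Ideal.Quotient.mk Q (e (MvPolynomial.rename some (φ (MvPolynomial.X o))))
        cases o with
        | none =>
          rw [hφn, map_zero, map_zero, map_zero]
          exact Ideal.Quotient.eq_zero_iff_mem.mpr hX
        | some i =>
          rw [hφs, MvPolynomial.rename_X]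
          rfl
    rw [← Ideal.Quotient.eq_zero_iff_mem, ← RingHom.comp_apply, hfac, RingHom.comp_apply,
      show φ.toRingHom f = 0 from hf, map_zero]
  let vD : D := ⟨v, hv⟩
  let wD : D := ⟨w, hw⟩
  obtain ⟨P, hPx, hPp⟩ := exists_prime_over_notMem p qD hpq (x := vD) hvQ
  have hgP : algebraMap R D (MvPolynomial.X none) ∈ P.asIdeal := by
    show MvPolynomial.X none ∈ P.asIdeal.comap (algebraMap R D)
    rw [hPp]
    exact hφn
  have haP : algebraMap R D (MvPolynomial.C a) ∉ P.asIdeal := by
    intro h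
    have h2 : φ (MvPolynomial.C a) = 0 := hPp.le h
    rw [hφC] at h2
    exact ha (MvPolynomial.C_injective σ A' (h2.trans (map_zero _).symm))
  have hkey : algebraMap R D (MvPolynomial.C a) * vD = algebraMap R D (MvPolynomial.X none) * wD :=
    Subtype.ext heq
  rcases P.2.mem_or_mem (show algebraMap R D (MvPolynomial.C a) * vD ∈ P.asIdeal from
    hkey ▸ Ideal.mul_mem_right _ _ hgP) with h | h
  · exact haP h
  · exact hPx h

/-- Independent elements stay independent over an integral extension of the coefficients. -/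
theorem injective_eval₂Hom {A A' B0 B' σ : Type u} [CommRing A] [CommRing A'] [Algebra A A']
    [Algebra.IsIntegral A A'] [IsDomain A'] [FaithfulSMul A A'] [CommRing B0] [Algebra A B0]
    [CommRing B'] [IsDomain B'] (j : A' →+* B') (hj : Function.Injective j) (θ : B0 →+* B')
    (hθ : Function.Injective θ) (hjθ : ∀ z, j (algebraMap A A' z) = θ (algebraMap A B0 z))
    (w : σ → B0) (hw : AlgebraicIndependent A w) :
    Function.Injective (MvPolynomial.eval₂Hom j fun o => θ (w o)) := by
  letI : Algebra A' B' := j.toAlgebra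
  letI : Algebra A B' := (j.comp (algebraMap A A')).toAlgebra
  haveI : IsScalarTower A A' B' := IsScalarTower.of_algebraMap_eq fun z => rfl
  haveI : FaithfulSMul A' B' := (faithfulSMul_iff_algebraMap_injective _ _).mpr hj
  let θa : B0 →ₐ[A] B' := { θ with commutes' := fun z => (hjθ z).symm }
  have h1 : AlgebraicIndependent A fun o => θa (w o) := hw.map' (f := θa) hθ
  exact algebraicIndependent_iff_injective_aeval.mp (h1.extendScalars_of_isIntegral (S := A'))

/-- The map from the integral closure in the fraction field. -/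
theorem exists_hom_integralClosure (A L : Type u) [CommRing A] [IsDomain A] [Field L] [Algebra A L]
    [FaithfulSMul A L] :
    ∃ ι : integralClosure A (FractionRing A) →ₐ[A] L, Function.Injective ι ∧ ∀ z, IsIntegral A (ι z) := by
  let K := FractionRing A
  let ι : K →ₐ[A] L := { IsFractionRing.lift (FaithfulSMul.algebraMap_injective A L) with
    commutes' := fun z => IsFractionRing.lift_algebraMap (FaithfulSMul.algebraMap_injective A L) z }
  exact ⟨ι.comp (integralClosure A K).val, ι.toRingHom.injective.comp Subtype.val_injective,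
    fun z => z.2.map ι⟩

/-- The key step: if the coordinates together with `g₀` are independent, no nonzero constant is a
multiple of `g₀` at the closed point. -/
theorem not_smul_eq_mul {A B0 B : Type u} [CommRing A] [IsDomain A] [CommRing B0] [Algebra A B0]
    [CommRing B] [IsDomain B] [IsLocalRing B] [Algebra A B] [Algebra B0 B] [IsScalarTower A B0 B]
    [FaithfulSMul A B] [FaithfulSMul B0 B]
    {σ : Type u} [Finite σ] (γ : MvPolynomial (Option σ) A →ₐ[A] B0)
    (hγ : AlgebraicIndependent A fun o => γ (MvPolynomial.X o))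
    (hg : algebraMap B0 B (γ (MvPolynomial.X none)) ∈ maximalIdeal B) (r : B0)
    (hr : algebraMap B0 B r ∉ maximalIdeal B)
    (hx : ∀ x : B0, ∃ m : ℕ, γ.toRingHom.IsIntegralElem (r ^ m * x))
    (a : A) (ha : a ≠ 0) (b s : B0) (hs : algebraMap B0 B s ∉ maximalIdeal B) :
    algebraMap A B0 a * s ≠ γ (MvPolynomial.X none) * b := by
  intro heq
  let L := FractionRing B
  haveI : FaithfulSMul A L := (faithfulSMul_iff_algebraMap_injective _ _).mpr (by
    rw [IsScalarTower.algebraMap_eq A B L]
    exact (IsFractionRing.injective B L).comp (FaithfulSMul.algebraMap_injective A B))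
  let B' := integralClosure B L
  let A' := integralClosure A (FractionRing A)
  haveI : IsIntegrallyClosed A' := integralClosure.isIntegrallyClosedOfFiniteExtension (R := A) (FractionRing A)
  haveI : FaithfulSMul A A' := (faithfulSMul_iff_algebraMap_injective _ _).mpr fun x y h =>
    IsFractionRing.injective A (FractionRing A) (congrArg Subtype.val h)
  obtain ⟨ι, hι, hint⟩ := exists_hom_integralClosure A L
  let j : A' →+* B' := ι.toRingHom.codRestrict B'.toSubring fun z => (hint z).tower_top
  have hj : Function.Injective j := fun x y h => hι (congrArg Subtype.val h)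
  let θ : B0 →+* B' := (algebraMap B B').comp (algebraMap B0 B)
  have hθ : Function.Injective θ := fun x y h =>
    FaithfulSMul.algebraMap_injective B0 B (IsFractionRing.injective B L (congrArg Subtype.val h))
  have hjθ : ∀ z : A, j (algebraMap A A' z) = θ (algebraMap A B0 z) := fun z => Subtype.ext (by
    show ι (algebraMap A _ z) = algebraMap B L (algebraMap B0 B (algebraMap A B0 z))
    rw [ι.commutes, ← IsScalarTower.algebraMap_apply A B0 B, ← IsScalarTower.algebraMap_apply A B L])
  let e : MvPolynomial (Option σ) A' →+* B' := MvPolynomial.eval₂Hom j fun o => θ (γ (MvPolynomial.X o))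
  have he : Function.Injective e := injective_eval₂Hom j hj θ hθ hjθ _ hγ
  have heC : ∀ z, e (MvPolynomial.C z) = j z := fun z => MvPolynomial.eval₂Hom_C _ _ z
  have heX : ∀ o, e (MvPolynomial.X o) = θ (γ (MvPolynomial.X o)) := fun o => MvPolynomial.eval₂Hom_X' _ _ o
  have heγ : e.comp (MvPolynomial.map (algebraMap A A')) = θ.comp γ.toRingHom := by
    refine MvPolynomial.ringHom_ext (fun z => ?_) (fun o => ?_)
    · rw [RingHom.comp_apply, RingHom.comp_apply, MvPolynomial.map_C, heC, hjθ]
      congr 1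
      exact (γ.commutes z).symm
    · rw [RingHom.comp_apply, RingHom.comp_apply, MvPolynomial.map_X, heX]
      rfl
  have hD : ∀ x : B0, γ.toRingHom.IsIntegralElem x → e.IsIntegralElem (θ x) := fun x hx => by
    obtain ⟨f, hf, hfx⟩ := hx
    refine ⟨f.map (MvPolynomial.map (algebraMap A A')), hf.map _, ?_⟩
    rw [Polynomial.eval₂_map, heγ, ← Polynomial.hom_eval₂, hfx, map_zero]
  obtain ⟨Q', -, hQ', hQ'c⟩ := Ideal.exists_ideal_over_prime_of_isIntegral (maximalIdeal B) (⊥ : Ideal B')
    ((Ideal.comap_bot_of_injective (algebraMap B B') fun x y h =>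
      IsFractionRing.injective B L (congrArg Subtype.val h)).le.trans bot_le)
  haveI := hQ'
  have hQ'θ : ∀ x : B0, θ x ∈ Q' ↔ algebraMap B0 B x ∈ maximalIdeal B := fun x => by
    rw [← hQ'c, Ideal.mem_comap]
    rfl
  have hrint : γ.toRingHom.IsIntegralElem r := by
    letI := γ.toRingHom.toAlgebra
    obtain ⟨m, hm⟩ := hx r
    rw [← pow_succ] at hm
    exact (IsIntegral.pow_iff (Nat.succ_pos m)).mp hm
  obtain ⟨k1, hk1⟩ := hx s
  obtain ⟨k2, hk2⟩ := hx b
  letI := γ.toRingHom.toAlgebra
  have hv : γ.toRingHom.IsIntegralElem (r ^ k1 * s * r ^ k2) :=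
    IsIntegral.mul hk1 (IsIntegral.pow hrint k2)
  have hw : γ.toRingHom.IsIntegralElem (r ^ k2 * b * r ^ k1) :=
    IsIntegral.mul hk2 (IsIntegral.pow hrint k1)
  have hxq : θ (r ^ k1 * s * r ^ k2) ∉ Q' := by
    intro h'
    rw [hQ'θ, map_mul, map_mul, map_pow, map_pow] at h'
    rcases (maximalIdeal.isMaximal B).isPrime.mem_or_mem h' with h1 | h1
    · rcases (maximalIdeal.isMaximal B).isPrime.mem_or_mem h1 with h2 | h2
      · exact hr ((maximalIdeal.isMaximal B).isPrime.mem_of_pow_mem _ h2)
      · exact hs h2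
    · exact hr ((maximalIdeal.isMaximal B).isPrime.mem_of_pow_mem _ h1)
  have ha' : algebraMap A A' a ≠ 0 := (map_ne_zero_iff _ (FaithfulSMul.algebraMap_injective A A')).mpr ha
  refine const_mul_ne e he Q' (by rw [heX]; exact (hQ'θ _).mpr hg) (algebraMap A A' a) ha' _ _
    (hD _ hv) (hD _ hw) hxq ?_
  rw [heC, hjθ, heX, ← map_mul, ← map_mul]
  exact congrArg θ (by linear_combination (r ^ (k1 + k2)) * heq)

/-- An element lying in no component cuts down the fibre dimension at a point. -/
theorem fibreDimAt_quotient_lt {A B0 : Type u} [CommRing A] [IsLocalRing A] [CommRing B0] [Algebra A B0]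
    [Algebra.FiniteType A B0] (g0 : B0) (Qc : PrimeSpectrum (CFib A B0))
    (hmin : ∀ P0 : PrimeSpectrum (CFib A B0), P0 ≤ Qc → IsMin P0 → Ideal.Quotient.mk _ g0 ∉ P0.asIdeal)
    (hg : Ideal.Quotient.mk _ g0 ∈ Qc.asIdeal) (n : ℕ)
    (hn : ∀ P : PrimeSpectrum (CFib A B0), P ≤ Qc → ringKrullDim (CFib A B0 ⧸ P.asIdeal) ≤ n)
    (q1 : PrimeSpectrum (B0 ⧸ Ideal.span {g0}))
    (hq1 : q1.asIdeal.comap (Ideal.Quotient.mk _) = Qc.asIdeal.comap (Ideal.Quotient.mk _))
    (hq : q1.asIdeal.under A = maximalIdeal A) :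
    1 ≤ n ∧ FlatMor.fibreDimAt (Spec.map (CommRingCat.ofHom (algebraMap A (B0 ⧸ Ideal.span {g0})))) q1 ≤ (n - 1 : ℕ) := by
  classical
  have hlt : ∀ P : PrimeSpectrum (CFib A B0), P ≤ Qc → Ideal.Quotient.mk _ g0 ∈ P.asIdeal →
      ∃ t : ℕ, ringKrullDim (CFib A B0 ⧸ P.asIdeal) = t ∧ t < n := by
    intro P hP hgP
    obtain ⟨P0, hP0, hP0P⟩ := Ideal.exists_minimalPrimes_le (I := (⊥ : Ideal (CFib A B0))) (J := P.asIdeal) bot_le
    haveI : P0.IsPrime := hP0.1.1
    have hmin0 : IsMin (⟨P0, inferInstance⟩ : PrimeSpectrum (CFib A B0)) := fun R hR => hP0.2 ⟨R.2, bot_le⟩ hR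
    have hne : P0 < P.asIdeal := lt_of_le_of_ne hP0P fun e =>
      hmin ⟨P0, inferInstance⟩ (hP0P.trans hP) hmin0 (e ▸ hgP)
    haveI : Algebra.FiniteType (ResidueField A) (CFib A B0 ⧸ P.asIdeal) :=
      Algebra.FiniteType.trans (R := ResidueField A) (S := CFib A B0) inferInstance inferInstance
    obtain ⟨t, ht, -⟩ := H8Props.FieldDim.exists_dim_trdeg (ResidueField A) (CFib A B0 ⧸ P.asIdeal)
    refine ⟨t, ht, ?_⟩
    have h1 := (H8Props.FieldDim.dim_quotient_lt (ResidueField A) (CFib A B0) P0 P.asIdeal hne).trans_le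
      (hn ⟨P0, inferInstance⟩ (hP0P.trans hP))
    rw [ht] at h1
    exact_mod_cast h1
  obtain ⟨t0, -, ht0⟩ := hlt Qc le_rfl hg
  refine ⟨by omega, ?_⟩
  obtain ⟨Qc1, hQc1, hfd⟩ := fibreDimAt_eq_iSup q1 hq
  rw [hfd]
  refine iSup_le fun P1 => ?_
  let π0 : B0 →+* CFib A (B0 ⧸ Ideal.span {g0}) := (Ideal.Quotient.mk _).comp (Ideal.Quotient.mk _)
  have hπ0 : ∀ x ∈ (maximalIdeal A).map (algebraMap A B0), π0 x = 0 := fun x hx =>
    (Ideal.map_le_iff_le_comap.mpr fun z hz => by
      show π0 (algebraMap A B0 z) = 0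
      exact Ideal.Quotient.eq_zero_iff_mem.mpr (Ideal.mem_map_of_mem _ hz) :
      (maximalIdeal A).map (algebraMap A B0) ≤ RingHom.ker π0) hx
  let π : CFib A B0 →+* CFib A (B0 ⧸ Ideal.span {g0}) := Ideal.Quotient.lift _ π0 hπ0
  have hπ : Function.Surjective π :=
    Ideal.Quotient.lift_surjective_of_surjective _ _ (Ideal.Quotient.mk_surjective.comp Ideal.Quotient.mk_surjective)
  let P : PrimeSpectrum (CFib A B0) := PrimeSpectrum.comap π P1.1
  have hP : P ≤ Qc := fun x hx => by
    obtain ⟨c, rfl⟩ := Ideal.Quotient.mk_surjective x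
    have h1 : π0 c ∈ Qc1.asIdeal := P1.2 hx
    have h2 : Ideal.Quotient.mk (Ideal.span {g0}) c ∈ q1.asIdeal := hQc1.le h1
    exact Ideal.mem_comap.mp (hq1.le h2)
  obtain ⟨t, ht, htn⟩ := hlt P hP (by
    show π0 g0 ∈ P1.1.asIdeal
    have : π0 g0 = 0 := by
      show Ideal.Quotient.mk _ (Ideal.Quotient.mk _ g0) = 0
      rw [Ideal.Quotient.eq_zero_iff_mem.mpr (Ideal.mem_span_singleton_self g0), map_zero]
    rw [this]; exact zero_mem _)
  let e : CFib A B0 ⧸ P.asIdeal →+* CFib A (B0 ⧸ Ideal.span {g0}) ⧸ P1.1.asIdeal :=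
    Ideal.quotientMap _ π le_rfl
  have he : Function.Bijective e :=
    ⟨Ideal.quotientMap_injective, Ideal.quotientMap_surjective hπ⟩
  rw [← ringKrullDim_eq_of_ringEquiv (RingEquiv.ofBijective e he), ht]
  exact_mod_cast (show t ≤ n - 1 by omega)

end Groth.Agent.H7Flat.Horizontal
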