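import Groth.Agent.H7Flat.Horizontal.Basic
import Groth.Agent.H06EGA14.Chevalley
import Groth.Agent.H8Props.FibreDimSemicont

/-!
# Transcendence degree bounded by the fibre dimension
-/

set_option autoImplicit false
set_option linter.style.haveILetI false
set_option backward.isDefEq.respectTransparency false
set_option maxHeartbeats 1000000

universe u

open IsLocalRing TensorProduct AlgebraicGeometry CategoryTheory

namespace Groth.Agent.H7Flat.Horizontal

/-- Zariski's Main Theorem for a map from affine space, in the form needed here. -/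
theorem exists_zmt {A B0 : Type u} [CommRing A] [CommRing B0] [Algebra A B0] [Algebra.FiniteType A B0]
    {σ : Type u} (γ : MvPolynomial σ A →ₐ[A] B0) (q : PrimeSpectrum B0)
    (h : (Spec.map (CommRingCat.ofHom γ.toRingHom)).QuasiFiniteAt q) :
    ∃ r ∉ q.asIdeal, ∀ x : B0, ∃ m : ℕ, γ.toRingHom.IsIntegralElem (r ^ m * x) := by
  letI := γ.toRingHom.toAlgebra
  haveI : IsScalarTower A (MvPolynomial σ A) B0 := IsScalarTower.of_algebraMap_eq fun a => (γ.commutes a).symm
  haveI : Algebra.FiniteType (MvPolynomial σ A) B0 := Algebra.FiniteType.of_restrictScalars_finiteType A _ _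
  haveI : q.asIdeal.IsPrime := q.2
  haveI : Algebra.QuasiFiniteAt (MvPolynomial σ A) q.asIdeal :=
    H06EGA14.quasiFiniteAt_of_specMap (CommRingCat.ofHom γ.toRingHom) q h
  obtain ⟨r, hr, hx⟩ := Algebra.zariskisMainProperty_iff'.mp
    (Algebra.ZariskisMainProperty.of_finiteType (R := MvPolynomial σ A) q.asIdeal)
  exact ⟨r, hr, hx⟩

/-- A domain birationally integral over the image of affine space is algebraic over that image. -/
theorem isAlgebraic_of_zmt {A B0 : Type u} [CommRing A] [IsDomain A] [CommRing B0] [IsDomain B0]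
    [Algebra A B0] {σ : Type u} (γ : MvPolynomial σ A →ₐ[A] B0)
    {r : B0} (hr0 : r ≠ 0) (hx : ∀ x : B0, ∃ m : ℕ, γ.toRingHom.IsIntegralElem (r ^ m * x)) :
    Algebra.IsAlgebraic (Algebra.adjoin A (Set.range fun i => γ (MvPolynomial.X i))) B0 := by
  let s : Set B0 := Set.range fun i => γ (MvPolynomial.X i)
  let γ' : MvPolynomial σ A →ₐ[A] Algebra.adjoin A s :=
    MvPolynomial.aeval fun i => ⟨γ (MvPolynomial.X i), Algebra.subset_adjoin ⟨i, rfl⟩⟩
  have hγ : (algebraMap (Algebra.adjoin A s) B0).comp γ'.toRingHom = γ.toRingHom :=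
    MvPolynomial.ringHom_ext (fun a => by simp [γ']) (fun i => by simp [γ'])
  have hint : ∀ y : B0, γ.toRingHom.IsIntegralElem y → IsAlgebraic (Algebra.adjoin A s) y := fun y hy => by
    obtain ⟨p, hp, hpy⟩ := hy
    refine IsIntegral.isAlgebraic ⟨p.map γ'.toRingHom, hp.map _, ?_⟩
    rw [Polynomial.eval₂_map, hγ]
    exact hpy
  have hralg : IsAlgebraic (Algebra.adjoin A s) r := by
    obtain ⟨m, hm⟩ := hx r
    have h1 := hint _ hm
    rw [← pow_succ] at h1
    exact IsAlgebraic.of_pow (Nat.succ_pos m) h1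
  exact ⟨fun x => by
    obtain ⟨m, hm⟩ := hx x
    exact IsAlgebraic.of_mul (mem_nonZeroDivisors_of_ne_zero (pow_ne_zero m hr0)) (hralg.pow m) (hint _ hm)⟩

/-- A domain quasi-finite over affine space somewhere has transcendence degree at most its dimension. -/
theorem trdeg_le_card {A B0 : Type u} [CommRing A] [IsDomain A] [CommRing B0] [IsDomain B0]
    [Algebra A B0] [Algebra.FiniteType A B0] {σ : Type u} [Fintype σ] (γ : MvPolynomial σ A →ₐ[A] B0)
    (q : PrimeSpectrum B0) (h : (Spec.map (CommRingCat.ofHom γ.toRingHom)).QuasiFiniteAt q) :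
    Algebra.trdeg A B0 ≤ (Fintype.card σ : ℕ) := by
  obtain ⟨r, hr, hx⟩ := exists_zmt γ q h
  let s : Set B0 := Set.range fun i => γ (MvPolynomial.X i)
  haveI : Algebra.IsAlgebraic (Algebra.adjoin A s) B0 :=
    isAlgebraic_of_zmt γ (r := r) (fun e => hr (e ▸ zero_mem _)) hx
  refine (Algebra.IsAlgebraic.trdeg_le_cardinalMk A s).trans ?_
  refine Cardinal.mk_range_le.trans (le_of_eq ?_)
  exact Cardinal.mk_fintype σ

end Groth.Agent.H7Flat.Horizontal
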